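import Cfsg.Agent.Lib.CosetEnum.Spider322.Pres

set_option autoImplicit false
set_option linter.all false

namespace CfsgLib.CosetEnum.Spider322

namespace U6

open CfsgLib.CosetEnum

/-- Relator words in local letters. -/
def lsl : List (List ℕ) := [[0, 0]]

/-- Subgroup letters. -/
def lsub : List (List ℕ) := []

noncomputable def col0 : Tr :=
 (.leaf 0x1)
noncomputable def table : List Tr := [col0]

noncomputable def facts : Tr :=
 (.leaf 0x100000)
noncomputable def words : Tr :=
 (.leaf 0x100000000000001000000000000000100000000000000010000000000000001000000000000000100)
noncomputable def subs : Tr :=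
 (.leaf 0x0)
noncomputable def lives : Tr :=
 (.leaf 0x100000)
noncomputable def entryFact : Tr :=
 (.leaf 0x2000001)
noncomputable def items0 : List ℕ := [
nat_lit 0x0]
theorem facts_ok0 : checkFacts facts 18364758544493064720 words 64 subs 2 items0 0 = true := by decide +kernel
theorem facts_ok : ∀ j < 1, ∃ item, checkFact facts 18364758544493064720 words 64 subs 2 j item = true := by
  intro j hj
  rcases Nat.lt_or_ge j 1 with h | h
  · exact checkFacts_spec _ _ _ _ _ _ items0 0 facts_ok0 j (by omega) (lt_of_lt_of_eq h (by decide +kernel))
  omega
theorem rows_0 : checkRows facts 18364758544493064720 lives entryFact table 2 1 1 2 0 = true := by decide +kernel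
theorem rows_ok : ∀ k < 2, checkRow facts 18364758544493064720 lives entryFact 2 1 1 k table 0 = true := by
  intro k hk
  rcases Nat.lt_or_ge k 2 with h | h
  · exact checkRows_spec _ _ _ _ _ _ _ _ _ _ rows_0 k (by omega) (by omega)
  omega
theorem words_fit : words.fits 64 128 = true := by decide +kernel
theorem words_eq : listEq (words.entries 64 128) (allCodes 18364758544493064720 1 lsl) = true := by decide +kernel
theorem subs_fit : subs.fits 64 128 = true := by decide +kernel
theorem subs_eq : listEq (subs.entries 64 128) (subCodes 18364758544493064720 lsub) = true := by decide +kernel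
theorem lives_zero : Nat.beq (lives.get 20 0) 0 = true := by decide +kernel

theorem covers : CoversCosets (Level g [2]) (Level g []) 2 :=
  covers_level g15 hinv ls lsWords [2] [] 18364758544493064720 (ip := 18364758544493064720) (by decide +kernel) lsl lsub (by decide +kernel) (by decide +kernel)
    facts U6.words subs lives entryFact U6.table 64 128 2 1 2 1 rfl rfl (by omega)
    words_fit words_eq subs_fit subs_eq facts_ok lives_zero rows_ok

end U6

end CfsgLib.CosetEnum.Spider322
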